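import Mathlib

/-!
Field extensions in which every element has a power in the base field (Brandis).
-/

set_option autoImplicit false
set_option linter.style.haveILetI false
set_option backward.isDefEq.respectTransparency false

universe u

namespace Groth.Agent.PowRangeLib

variable {k k' : Type u} [Field k] [Field k'] [Algebra k k']

/-- Two conjugate elements differ by roots of unity on all translates. -/
theorem exists_data (h : ∀ x : k', ∃ n : ℕ, 0 < n ∧ x ^ n ∈ Set.range (algebraMap k k'))
    (hP : ¬ IsPurelyInseparable k k') :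
    ∃ x y : AlgebraicClosure k', x ≠ y ∧ ∀ a : k, ∃ (ζ : AlgebraicClosure k') (n : ℕ), 0 < n ∧ ζ ^ n = 1 ∧
      y + algebraMap k _ a = ζ * (x + algebraMap k _ a) := by
  rw [isPurelyInseparable_iff_subsingleton_emb, not_subsingleton_iff_nontrivial] at hP
  obtain ⟨σ, τ, hne⟩ := hP.exists_pair_ne
  obtain ⟨x, hx⟩ : ∃ x, σ x ≠ τ x := by
    by_contra hc
    push Not at hc
    exact hne (AlgHom.ext hc)
  have hnk : ∀ a : k, x + algebraMap k k' a ≠ 0 := fun a h0 => hx (by
    rw [show x = algebraMap k k' (-a) by rw [map_neg]; exact eq_neg_of_add_eq_zero_left h0, σ.commutes, τ.commutes])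
  refine ⟨σ x, τ x, hx, fun a => ?_⟩
  obtain ⟨n, hn, c, hc⟩ := h (x + algebraMap k k' a)
  have h0 : σ (x + algebraMap k k' a) ≠ 0 := (map_ne_zero_iff σ σ.injective).2 (hnk a)
  refine ⟨τ (x + algebraMap k k' a) / σ (x + algebraMap k k' a), n, hn, ?_, ?_⟩
  · rw [div_pow, ← map_pow, ← map_pow, ← hc, σ.commutes, τ.commutes, div_self]
    rw [← σ.commutes, hc, map_pow]
    exact pow_ne_zero _ h0
  · have := div_mul_cancel₀ (τ (x + algebraMap k k' a)) h0
    simp only [map_add, AlgHom.commutes] at this ⊢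
    exact this.symm

/-- The translates determine the two conjugates. -/
theorem mem_of_data {K : Type u} [Field K] (S : Subfield K) {x y ζ₀ ζ₁ : K} (hxy : x ≠ y) (h₀ : y = ζ₀ * x)
    (h₁ : y + 1 = ζ₁ * (x + 1)) (m₀ : ζ₀ ∈ S) (m₁ : ζ₁ ∈ S) : x ∈ S ∧ y ∈ S := by
  have hne : ζ₀ - ζ₁ ≠ 0 := fun h => hxy (by
    rw [sub_eq_zero] at h
    rw [← h, mul_add, mul_one, ← h₀] at h₁
    rw [h₀, ← add_left_cancel h₁, one_mul])
  have hx : x = (ζ₁ - 1) / (ζ₀ - ζ₁) := by
    rw [eq_div_iff hne]
    linear_combination h₁ - h₀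
  have hxS : x ∈ S := hx ▸ S.div_mem (S.sub_mem m₁ S.one_mem) (S.sub_mem m₀ m₁)
  exact ⟨hxS, h₀ ▸ S.mul_mem m₀ hxS⟩

/-- Roots of unity in a number field form a finite set. -/
theorem finite_roots_of_unity {K : Type u} [Field K] [NumberField K] :
    {z : K | ∃ n : ℕ, 0 < n ∧ z ^ n = 1}.Finite := by
  refine (NumberField.Embeddings.finite_of_norm_le K ℂ 1).subset ?_
  rintro z ⟨n, hn, hz⟩
  refine ⟨IsIntegral.of_pow hn (by rw [hz]; exact isIntegral_one), fun φ => ?_⟩
  exact (Complex.norm_eq_one_of_pow_eq_one (by rw [← map_pow, hz, map_one]) hn.ne').le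

theorem not_charZero [CharZero k'] (h : ∀ x : k', ∃ n : ℕ, 0 < n ∧ x ^ n ∈ Set.range (algebraMap k k'))
    (hP : ¬ IsPurelyInseparable k k') : False := by
  obtain ⟨x, y, hxy, hd⟩ := exists_data h hP
  choose ζ n hn hζ he using hd
  haveI : CharZero (AlgebraicClosure k') := charZero_of_injective_algebraMap (algebraMap k' _).injective
  let F : IntermediateField ℚ (AlgebraicClosure k') := IntermediateField.adjoin ℚ {ζ 0, ζ 1}
  have hint : ∀ a, IsIntegral ℚ (ζ a) := fun a => IsIntegral.of_pow (hn a) (by rw [hζ a]; exact isIntegral_one)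
  haveI : FiniteDimensional ℚ F := IntermediateField.finiteDimensional_adjoin (fun z hz => by
    rcases hz with rfl | rfl <;> exact hint _)
  haveI : NumberField F := ⟨⟩
  obtain ⟨hxF, hyF⟩ := mem_of_data F.toSubfield hxy (by simpa using he 0) (by simpa using he 1)
    (IntermediateField.subset_adjoin ℚ _ (Or.inl rfl)) (IntermediateField.subset_adjoin ℚ _ (Or.inr rfl))
  have hfin : (Set.range fun m : ℕ => ζ (m : k)).Finite := by
    refine ((finite_roots_of_unity (K := F)).image Subtype.val).subset ?_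
    rintro _ ⟨m, rfl⟩
    have h0 : x + algebraMap k _ (m : k) ≠ 0 := fun h0 => hxy (by
      have h1 := he (m : k)
      rw [h0, mul_zero] at h1
      exact add_right_cancel (h0.trans h1.symm))
    have hm : ζ (m : k) = (y + (m : AlgebraicClosure k')) / (x + (m : AlgebraicClosure k')) := by
      rw [← map_natCast (algebraMap k (AlgebraicClosure k')) m, eq_div_iff h0]
      exact (he (m : k)).symm
    have hmem : ζ (m : k) ∈ F := hm ▸ F.div_mem (F.add_mem hyF (natCast_mem F m)) (F.add_mem hxF (natCast_mem F m))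
    exact ⟨⟨_, hmem⟩, ⟨n (m : k), hn _, Subtype.ext (hζ _)⟩, rfl⟩
  refine (Set.infinite_range_of_injective ?_) hfin
  intro a b hab
  have h1 := he (a : k)
  have h2 := he (b : k)
  simp only [map_natCast] at h1 h2
  rw [show ζ (a : k) = ζ (b : k) from hab] at h1
  have h3 : ((a : AlgebraicClosure k') - b) * (1 - ζ (b : k)) = 0 := by linear_combination h1 - h2
  rcases mul_eq_zero.1 h3 with h4 | h4
  · exact_mod_cast sub_eq_zero.1 h4
  · exfalso
    rw [← sub_eq_zero.1 h4, one_mul] at h2
    exact hxy (add_right_cancel h2).symm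

theorem algebraic_of_charP (p : ℕ) [Fact p.Prime] [CharP k' p] [Algebra (ZMod p) k']
    (h : ∀ x : k', ∃ n : ℕ, 0 < n ∧ x ^ n ∈ Set.range (algebraMap k k'))
    (hP : ¬ IsPurelyInseparable k k') : Algebra.IsAlgebraic (ZMod p) k' := by
  obtain ⟨x, y, hxy, hd⟩ := exists_data h hP
  choose ζ n hn hζ he using hd
  let S := (algebraicClosure (ZMod p) (AlgebraicClosure k')).toSubfield
  have hroot : ∀ a, ζ a ∈ S := fun a => mem_algebraicClosure_iff.2
    (IsIntegral.of_pow (hn a) (by rw [hζ a]; exact isIntegral_one)).isAlgebraic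
  have hk : ∀ a : k, algebraMap k (AlgebraicClosure k') a ∈ S := by
    intro a
    obtain ⟨hx0, -⟩ := mem_of_data S hxy (by simpa using he 0) (by simpa using he 1) (hroot 0) (hroot 1)
    obtain ⟨hxa, -⟩ := mem_of_data S (x := x + algebraMap k _ a) (y := y + algebraMap k _ a)
      (fun h' => hxy (add_right_cancel h')) (he a)
      (by simpa [add_assoc] using he (a + 1)) (hroot a) (hroot (a + 1))
    simpa using S.sub_mem hxa hx0
  refine ⟨fun z => ?_⟩
  obtain ⟨m, hm, c, hc⟩ := h z
  have h1 : IsIntegral (ZMod p) (algebraMap k' (AlgebraicClosure k') (z ^ m)) := by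
    rw [← hc, ← IsScalarTower.algebraMap_apply]
    exact (mem_algebraicClosure_iff.1 (hk c)).isIntegral
  rw [map_pow] at h1
  exact ((isIntegral_algebraMap_iff (algebraMap k' (AlgebraicClosure k')).injective).1 (h1.of_pow hm)).isAlgebraic

/-- Elements algebraic over the prime field have finite order. -/
theorem exists_pow_mem_of_isAlgebraic (p : ℕ) [Fact p.Prime] [CharP k' p]
    [Algebra.IsAlgebraic (⊥ : Subfield k') k'] (z : k') :
    ∃ n : ℕ, 0 < n ∧ z ^ n ∈ Set.range (algebraMap k k') := by
  rcases eq_or_ne z 0 with rfl | hz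
  · exact ⟨1, one_pos, 0, by rw [map_zero, pow_one]⟩
  haveI : Finite (⊥ : Subfield k') := by
    refine Finite.of_surjective (fun m : ZMod p => (⟨ZMod.castHom dvd_rfl k' m, ?_⟩ : (⊥ : Subfield k'))) ?_
    · obtain ⟨i, rfl⟩ := ZMod.natCast_zmod_surjective m
      rw [map_natCast]
      exact natCast_mem _ i
    · rintro ⟨w, hw⟩
      obtain ⟨m, hm⟩ := (bot_le : (⊥ : Subfield k') ≤ (ZMod.castHom dvd_rfl k' : ZMod p →+* k').fieldRange) hw
      exact ⟨m, Subtype.ext hm⟩
  let F := IntermediateField.adjoin (⊥ : Subfield k') {z}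
  haveI : FiniteDimensional (⊥ : Subfield k') F :=
    IntermediateField.adjoin.finiteDimensional (Algebra.IsAlgebraic.isAlgebraic z).isIntegral
  haveI : Finite F := Module.finite_of_finite (⊥ : Subfield k')
  letI := Fintype.ofFinite F
  have h1 : (⟨z, IntermediateField.mem_adjoin_simple_self _ z⟩ : F) ^ (Fintype.card F - 1) = 1 :=
    FiniteField.pow_card_sub_one_eq_one _ fun h => hz (congrArg Subtype.val h)
  refine ⟨Fintype.card F - 1, ?_, 1, ?_⟩
  · have := Fintype.one_lt_card (α := F)
    omega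
  · rw [map_one]
    exact (congrArg Subtype.val h1).symm

theorem iff_main : (∀ x : k', ∃ n : ℕ, 0 < n ∧ x ^ n ∈ Set.range (algebraMap k k')) ↔
    Function.Surjective (algebraMap k k') ∨
      ∃ p : ℕ, p.Prime ∧ CharP k' p ∧
        (IsPurelyInseparable k k' ∨ Algebra.IsAlgebraic (⊥ : Subfield k') k') := by
  constructor
  · intro h
    obtain ⟨p, hp⟩ := CharP.exists k'
    rcases CharP.char_is_prime_or_zero k' p with hprime | rfl
    · refine Or.inr ⟨p, hprime, hp, ?_⟩
      by_cases hP : IsPurelyInseparable k k'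
      · exact Or.inl hP
      refine Or.inr ?_
      haveI := Fact.mk hprime
      letI := ZMod.algebra k' p
      haveI := algebraic_of_charP p h hP
      haveI : CharP (⊥ : Subfield k') p :=
        (RingHom.charP_iff (algebraMap (⊥ : Subfield k') k') (algebraMap (⊥ : Subfield k') k').injective p).2 hp
      refine ⟨fun z => ?_⟩
      obtain ⟨q, hq, hq0⟩ := (Algebra.IsAlgebraic.isAlgebraic (R := ZMod p) z).isIntegral
      refine IsIntegral.isAlgebraic ⟨q.map (ZMod.castHom dvd_rfl (⊥ : Subfield k')), hq.map _, ?_⟩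
      rw [Polynomial.eval₂_map]
      exact (congrArg (fun g => Polynomial.eval₂ g z q) (Subsingleton.elim _ _)).trans hq0
    · refine Or.inl ?_
      haveI : CharZero k' := CharP.charP_to_charZero k'
      haveI : CharZero k := ⟨fun a b h => Nat.cast_injective (R := k') (by simpa using congrArg (algebraMap k k') h)⟩
      by_cases hP : IsPurelyInseparable k k'
      · haveI := hP
        exact IsPurelyInseparable.surjective_algebraMap_of_isSeparable k k'
      · exact (not_charZero h hP).elim
  · rintro (hs | ⟨p, hprime, hp, hP | hA⟩) z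
    · exact ⟨1, one_pos, by rw [pow_one]; exact hs z⟩
    · haveI := hP
      haveI := hp
      haveI := Fact.mk hprime
      haveI : CharP k p := (RingHom.charP_iff (algebraMap k k') (algebraMap k k').injective p).2 hp
      obtain ⟨m, hm⟩ := IsPurelyInseparable.pow_mem k p z
      exact ⟨p ^ m, pow_pos hprime.pos m, hm⟩
    · haveI := hp
      haveI := Fact.mk hprime
      haveI := hA
      exact exists_pow_mem_of_isAlgebraic p z

end Groth.Agent.PowRangeLib
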